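import Groth.Agent.FlatModel.Core
import Mathlib.RingTheory.FiniteType
import Mathlib.RingTheory.Ideal.Quotient.Operations
import Mathlib.RingTheory.IsTensorProduct
import Mathlib.RingTheory.Finiteness.ModuleFinitePresentation

/-!
# Noetherian models of a finitely presented algebra with a finitely presented module
-/

set_option autoImplicit false
set_option linter.style.haveILetI false
set_option backward.isDefEq.respectTransparency false
set_option maxHeartbeats 1000000

namespace Groth.Agent.FlatApproxHx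

open MvPolynomial TensorProduct
open Groth.Agent.FlatModel

universe u

variable {R A : Type u} [CommRing R] [CommRing A] [Algebra R A] {n : ℕ} (φ : MvPolynomial (Fin n) R →ₐ[R] A)
  (hφ : Function.Surjective φ) {R₁ : Type u} [CommRing R₁] [Algebra R₁ R] (F : Set (MvPolynomial (Fin n) R₁))
  (hker : RingHom.ker φ = Ideal.span (MvPolynomial.map (algebraMap R₁ R) '' F))

/-- The model algebra. -/
abbrev A₁ := MvPolynomial (Fin n) R₁ ⧸ Ideal.span F

include hker in
theorem le_ker_comp : Ideal.span F ≤ RingHom.ker (φ.toRingHom.comp (MvPolynomial.map (algebraMap R₁ R))) :=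
  Ideal.span_le.2 fun g hg => hker.ge (Ideal.subset_span ⟨g, hg, rfl⟩)

/-- The map from the model algebra. -/
noncomputable def toA : A₁ F →+* A :=
  Ideal.Quotient.lift _ (φ.toRingHom.comp (MvPolynomial.map (algebraMap R₁ R))) (le_ker_comp φ F hker)

theorem toA_mk (g : MvPolynomial (Fin n) R₁) :
    toA φ F hker (Ideal.Quotient.mk _ g) = φ (MvPolynomial.map (algebraMap R₁ R) g) := rfl

theorem toA_algebraMap (r : R₁) :
    toA φ F hker (algebraMap R₁ (A₁ F) r) = algebraMap R A (algebraMap R₁ R r) := by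
  show φ (MvPolynomial.map (algebraMap R₁ R) (MvPolynomial.C r)) = _
  rw [MvPolynomial.map_C, MvPolynomial.algHom_C]

include hφ hker in
theorem isPushout [Algebra R₁ A] [IsScalarTower R₁ R A] [Algebra (A₁ F) A] [IsScalarTower R₁ (A₁ F) A]
    (halg : ∀ z, algebraMap (A₁ F) A z = toA φ F hker z) : Algebra.IsPushout R₁ R (A₁ F) A := by
  let j : A₁ F →ₐ[R₁] A := IsScalarTower.toAlgHom R₁ (A₁ F) A
  let G : R ⊗[R₁] A₁ F →ₐ[R] A := Algebra.TensorProduct.lift (Algebra.ofId R A) j fun _ _ => Commute.all _ _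
  let ψ : MvPolynomial (Fin n) R →ₐ[R] R ⊗[R₁] A₁ F :=
    MvPolynomial.aeval (R := R) (S₁ := R ⊗[R₁] A₁ F) fun i => (1 : R) ⊗ₜ[R₁] Ideal.Quotient.mk (Ideal.span F) (X i)
  have hψ : ∀ g : MvPolynomial (Fin n) R₁,
      ψ (MvPolynomial.map (algebraMap R₁ R) g) = (1 : R) ⊗ₜ Ideal.Quotient.mk (Ideal.span F) g := by
    intro g
    refine RingHom.congr_fun (f := ψ.toRingHom.comp (MvPolynomial.map (algebraMap R₁ R)))
      (g := (Algebra.TensorProduct.includeRight : A₁ F →ₐ[R₁] R ⊗[R₁] A₁ F).toRingHom.comp (Ideal.Quotient.mk _))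
      (MvPolynomial.ringHom_ext (fun r => ?_) fun i => ?_) g
    · show ψ (MvPolynomial.map (algebraMap R₁ R) (C r)) = (1 : R) ⊗ₜ Ideal.Quotient.mk (Ideal.span F) (C r)
      rw [MvPolynomial.map_C, MvPolynomial.algHom_C,
        show Ideal.Quotient.mk (Ideal.span F) (C r) = r • (1 : A₁ F) from
          (Algebra.algebraMap_eq_smul_one r : algebraMap R₁ (A₁ F) r = _), tmul_smul,
        Algebra.TensorProduct.algebraMap_apply, Algebra.algebraMap_self, RingHom.id_apply, smul_tmul',
        Algebra.smul_def, mul_one]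
    · show ψ (MvPolynomial.map (algebraMap R₁ R) (X i)) = _
      rw [MvPolynomial.map_X, MvPolynomial.aeval_X]; rfl
  have hGψ : G.comp ψ = φ := by
    refine MvPolynomial.algHom_ext fun i => ?_
    show G (ψ (X i)) = φ (X i)
    rw [MvPolynomial.aeval_X, Algebra.TensorProduct.lift_tmul, map_one, one_mul]
    show algebraMap (A₁ F) A _ = _
    rw [halg, toA_mk, MvPolynomial.map_X]
  have hψs : Function.Surjective ψ := by
    intro t
    induction t using TensorProduct.induction_on with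
    | zero => exact ⟨0, map_zero _⟩
    | tmul r z =>
      obtain ⟨g, rfl⟩ := Ideal.Quotient.mk_surjective z
      refine ⟨r • MvPolynomial.map (algebraMap R₁ R) g, ?_⟩
      rw [map_smul, hψ, smul_tmul', smul_eq_mul, mul_one]
    | add x y hx hy =>
      obtain ⟨a, ha⟩ := hx; obtain ⟨b, hb⟩ := hy
      exact ⟨a + b, by rw [map_add, ha, hb]⟩
  have hle : RingHom.ker φ ≤ RingHom.ker ψ := by
    rw [hker, Ideal.span_le]
    rintro _ ⟨g, hg, rfl⟩
    rw [SetLike.mem_coe, RingHom.mem_ker, hψ, Ideal.Quotient.eq_zero_iff_mem.2 (Ideal.subset_span hg), tmul_zero]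
  have hG : Function.Bijective G := by
    refine ⟨(injective_iff_map_eq_zero G).2 fun t ht => ?_, fun a => ?_⟩
    · obtain ⟨P, rfl⟩ := hψs t
      exact hle ((DFunLike.congr_fun hGψ P).symm.trans ht)
    · obtain ⟨P, rfl⟩ := hφ a
      exact ⟨ψ P, DFunLike.congr_fun hGψ P⟩
  exact ⟨IsBaseChange.of_equiv (AlgEquiv.ofBijective G hG).toLinearEquiv fun z => by
    show G ((1 : R) ⊗ₜ z) = j z
    rw [Algebra.TensorProduct.lift_tmul, map_one, one_mul]⟩

theorem single_mul_eq_smul {R' : Type u} [CommRing R'] {a : ℕ} (v : V a n R') :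
    v = ∑ i, v i • (Pi.single i (1 : MvPolynomial (Fin n) R') : V a n R') := pi_eq_sum_univ' v

include hφ hker in
/-- The model built from descended relations. -/
theorem model_of_data {a : ℕ} {M : Type u} [AddCommGroup M] [Module A M] [Module R M] [IsScalarTower R A M]
    [Module (MvPolynomial (Fin n) R) M] (hPM : ∀ (P : MvPolynomial (Fin n) R) (m : M), P • m = φ P • m)
    (π : V a n R →ₗ[MvPolynomial (Fin n) R] M) (hπ : Function.Surjective π)
    (K : Submodule (MvPolynomial (Fin n) R₁) (V a n R₁))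
    (hKπ : ∀ u ∈ K, π (mapV (algebraMap R₁ R) u) = 0)
    (hπK : ∀ v, π v = 0 → v ∈ Submodule.span (MvPolynomial (Fin n) R) (mapV (algebraMap R₁ R) '' K))
    [Algebra R₁ A] [IsScalarTower R₁ R A] [Algebra (A₁ F) A] [IsScalarTower R₁ (A₁ F) A]
    (halg : ∀ z, algebraMap (A₁ F) A z = toA φ F hker z) [Module (A₁ F) M] [IsScalarTower (A₁ F) A M]
    (W : Type u) [AddCommGroup W] [Module (MvPolynomial (Fin n) R₁) W] [Module (A₁ F) W]
    [IsScalarTower (MvPolynomial (Fin n) R₁) (A₁ F) W]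
    (q : V a n R₁ →ₗ[MvPolynomial (Fin n) R₁] W) (hq : Function.Surjective q) (hKq : ∀ u, q u = 0 ↔ u ∈ K) :
    ∃ g : W →ₗ[A₁ F] M, Module.Finite (A₁ F) W ∧ IsBaseChange A g := by
  let g₀ : V a n R₁ →+ M := π.toAddMonoidHom.comp (mapVHom (algebraMap R₁ R))
  have hg₀ : ∀ (p : MvPolynomial (Fin n) R₁) (v : V a n R₁),
      g₀ (p • v) = φ (MvPolynomial.map (algebraMap R₁ R) p) • g₀ v := fun p v => by
    show π (mapV _ (p • v)) = _
    rw [mapV_smul, map_smul, hPM]
    rfl
  choose sec hsec using hq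
  have hwd : ∀ u, g₀ (sec (q u)) = g₀ u := fun u => by
    rw [← sub_eq_zero, ← map_sub]
    exact hKπ _ ((hKq _).1 (by rw [map_sub, hsec, sub_self]))
  let g₁ : W →+ M :=
    { toFun := fun x => g₀ (sec x)
      map_zero' := by rw [← map_zero q, hwd, map_zero]
      map_add' := fun x y => by
        obtain ⟨u, rfl⟩ : ∃ u, q u = x := ⟨_, hsec x⟩
        obtain ⟨v, rfl⟩ : ∃ v, q v = y := ⟨_, hsec y⟩
        rw [← map_add q, hwd, hwd, hwd, map_add] }
  let g : W →ₗ[A₁ F] M :=
    { toFun := g₁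
      map_add' := map_add g₁
      map_smul' := fun z x => by
        obtain ⟨p, rfl⟩ := Ideal.Quotient.mk_surjective z
        obtain ⟨v, rfl⟩ : ∃ v, q v = x := ⟨_, hsec x⟩
        rw [RingHom.id_apply, ← algebraMap_smul A (Ideal.Quotient.mk (Ideal.span F) p) (g₁ _), halg]
        show g₀ (sec (Ideal.Quotient.mk (Ideal.span F) p • q v)) = φ _ • g₀ (sec (q v))
        rw [show Ideal.Quotient.mk (Ideal.span F) p • q v = q (p • v) by
          rw [map_smul, ← IsScalarTower.algebraMap_smul (A₁ F) p (q v)]; rfl, hwd, hwd, hg₀] }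
  have hgq : ∀ v, g (q v) = g₀ v := hwd
  let E : A ⊗[A₁ F] W →ₗ[A] M := g.liftBaseChange A
  let σ : V a n R →+ A ⊗[A₁ F] W :=
    { toFun := fun v => ∑ i, φ (v i) ⊗ₜ[A₁ F] (q (Pi.single i 1))
      map_zero' := by simp
      map_add' := fun v w => by simp [TensorProduct.add_tmul, Finset.sum_add_distrib] }
  have hσ : ∀ (p : MvPolynomial (Fin n) R) (v : V a n R), σ (p • v) = φ p • σ v := fun p v => by
    show (∑ i, φ ((p • v) i) ⊗ₜ[A₁ F] (q (Pi.single i 1))) =
      φ p • ∑ i, φ (v i) ⊗ₜ[A₁ F] (q (Pi.single i 1))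
    rw [Finset.smul_sum]
    refine Finset.sum_congr rfl fun i _ => ?_
    rw [TensorProduct.smul_tmul', Pi.smul_apply, smul_eq_mul, map_mul, smul_eq_mul]
  have hσmap : ∀ u : V a n R₁,
      σ (mapV (algebraMap R₁ R) u) = (1 : A) ⊗ₜ[A₁ F] q u := fun u => by
    conv_rhs => rw [single_mul_eq_smul u, map_sum, TensorProduct.tmul_sum]
    show (∑ i, φ ((mapV (algebraMap R₁ R) u) i) ⊗ₜ[A₁ F] (q (Pi.single i 1))) = _
    refine Finset.sum_congr rfl fun i _ => ?_
    rw [mapV_apply, map_smul, ← toA_mk φ F hker, ← halg, Algebra.algebraMap_eq_smul_one]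
    exact (TensorProduct.smul_tmul (Ideal.Quotient.mk (Ideal.span F) (u i)) (1 : A) (q (Pi.single i 1))).trans
      (congrArg _ (IsScalarTower.algebraMap_smul (A₁ F) (u i) _))
  have hσK : ∀ x ∈ Submodule.span (MvPolynomial (Fin n) R) (mapV (algebraMap R₁ R) '' K), σ x = 0 := by
    intro x hx
    induction hx using Submodule.span_induction with
    | mem x hx =>
      obtain ⟨w, hw, rfl⟩ := hx
      rw [hσmap, (hKq w).2 hw, TensorProduct.tmul_zero]
    | zero => exact map_zero σ
    | add x y _ _ hx hy => rw [map_add, hx, hy, add_zero]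
    | smul p x _ hx => rw [hσ, hx, smul_zero]
  have hEσ : ∀ v, E (σ v) = π v := fun v => by
    conv_rhs => rw [single_mul_eq_smul v, map_sum]
    show E (∑ i, φ (v i) ⊗ₜ[A₁ F] (q (Pi.single i 1))) = _
    rw [map_sum]
    refine Finset.sum_congr rfl fun i _ => ?_
    rw [LinearMap.liftBaseChange_tmul, map_smul, hPM, hgq]
    show φ (v i) • π (mapV _ (Pi.single i 1)) = φ (v i) • π (Pi.single i 1)
    congr 2
    ext j : 1
    rw [mapV_apply]
    by_cases hj : j = i
    · subst hj; simp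
    · simp [hj]
  have hσs : Function.Surjective σ := by
    intro t
    induction t using TensorProduct.induction_on with
    | zero => exact ⟨0, map_zero σ⟩
    | tmul c x =>
      obtain ⟨u, rfl⟩ : ∃ u, q u = x := ⟨_, hsec x⟩
      obtain ⟨P, rfl⟩ := hφ c
      refine ⟨P • mapV (algebraMap R₁ R) u, ?_⟩
      rw [hσ, hσmap, TensorProduct.smul_tmul', smul_eq_mul, mul_one]
    | add x y hx hy =>
      obtain ⟨v, hv⟩ := hx; obtain ⟨w, hw⟩ := hy
      exact ⟨v + w, by rw [map_add, hv, hw]⟩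
  have hE : Function.Bijective E := by
    refine ⟨(injective_iff_map_eq_zero E).2 fun t ht => ?_, fun m => ?_⟩
    · obtain ⟨v, rfl⟩ := hσs t
      exact hσK v (hπK v ((hEσ v).symm.trans ht))
    · obtain ⟨v, rfl⟩ := hπ m
      exact ⟨σ v, hEσ v⟩
  haveI : Module.Finite (MvPolynomial (Fin n) R₁) W := Module.Finite.of_surjective q fun x => ⟨_, hsec x⟩
  exact ⟨g, Module.Finite.of_restrictScalars_finite (MvPolynomial (Fin n) R₁) (A₁ F) _,
    IsBaseChange.of_equiv (LinearEquiv.ofBijective E hE) fun x => by simp [E]⟩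

/-- Descent of all relations to a subring of finite type over `ℤ`. -/
theorem exists_data (R A : Type u) [CommRing R] [CommRing A] [Algebra R A] [Algebra.FinitePresentation R A]
    (M : Type u) [AddCommGroup M] [Module A M] [Module R M] [IsScalarTower R A M] [Module.FinitePresentation A M] :
    ∃ (n a : ℕ) (φ : MvPolynomial (Fin n) R →ₐ[R] A) (R₁ : Type u) (_ : CommRing R₁) (_ : Algebra R₁ R)
      (_ : Module (MvPolynomial (Fin n) R) M) (π : V a n R →ₗ[MvPolynomial (Fin n) R] M)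
      (F : Set (MvPolynomial (Fin n) R₁)) (K : Submodule (MvPolynomial (Fin n) R₁) (V a n R₁)),
      Function.Surjective φ ∧ Algebra.FiniteType ℤ R₁ ∧
      RingHom.ker φ = Ideal.span (MvPolynomial.map (algebraMap R₁ R) '' F) ∧
      (∀ (P : MvPolynomial (Fin n) R) (m : M), P • m = φ P • m) ∧ Function.Surjective π ∧
      (∀ u ∈ K, π (mapV (algebraMap R₁ R) u) = 0) ∧
      (∀ v, π v = 0 → v ∈ Submodule.span (MvPolynomial (Fin n) R) (mapV (algebraMap R₁ R) '' K)) ∧
      (∀ g ∈ F, ∀ v : V a n R₁, g • v ∈ K) ∧ (Module.Flat R M → Module.Flat R₁ (V a n R₁ ⧸ K)) := by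
  classical
  obtain ⟨n, φ, hφ, hkerφ⟩ := Algebra.FinitePresentation.out (R := R) (A := A)
  obtain ⟨f, hf⟩ := hkerφ
  let := φ.toRingHom.toAlgebra
  let := Module.compHom M φ.toRingHom
  haveI : IsScalarTower (MvPolynomial (Fin n) R) A M := ⟨fun p s m => mul_smul (φ p) s m⟩
  haveI : IsScalarTower R (MvPolynomial (Fin n) R) M := ⟨fun r p m => by
    show φ (r • p) • m = r • φ p • m
    rw [map_smul, smul_assoc]⟩
  have hkA : (LinearMap.ker (Algebra.linearMap (MvPolynomial (Fin n) R) A)).FG := ⟨f, hf⟩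
  haveI : Module.FinitePresentation (MvPolynomial (Fin n) R) A :=
    Module.finitePresentation_of_surjective (Algebra.linearMap (MvPolynomial (Fin n) R) A) hφ hkA
  haveI : Module.FinitePresentation (MvPolynomial (Fin n) R) M := Module.FinitePresentation.trans _ M A
  obtain ⟨a, π, hπ⟩ := Module.Finite.exists_fin' (MvPolynomial (Fin n) R) M
  obtain ⟨G, hG⟩ := Module.FinitePresentation.fg_ker π hπ
  let c : Finset R := (G.biUnion fun v => Finset.univ.biUnion fun i => (v i).coeffs) ∪ f.biUnion fun p => p.coeffs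
  let R₀ : Subalgebra ℤ R := Algebra.adjoin ℤ (c : Set R)
  haveI hR₀ft : Algebra.FiniteType ℤ R₀ := (Subalgebra.fg_iff_finiteType R₀).1 (Subalgebra.fg_adjoin_finset c)
  haveI : IsNoetherianRing R₀ := Algebra.FiniteType.isNoetherianRing ℤ R₀
  have hfdesc : ∀ p ∈ f, ∃ q : MvPolynomial (Fin n) R₀, MvPolynomial.map (algebraMap R₀ R) q = p := fun p hp =>
    MvPolynomial.mem_range_map_iff_coeffs_subset.2 fun x hx =>
      ⟨⟨x, Algebra.subset_adjoin (Finset.mem_union_right _ (Finset.mem_biUnion.2 ⟨p, hp, hx⟩))⟩, rfl⟩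
  have hGdesc : ∀ v ∈ G, ∃ w : V a n R₀, mapV (algebraMap R₀ R) w = v := by
    intro v hv
    have : ∀ i, ∃ q : MvPolynomial (Fin n) R₀, MvPolynomial.map (algebraMap R₀ R) q = v i := fun i =>
      MvPolynomial.mem_range_map_iff_coeffs_subset.2 fun x hx =>
        ⟨⟨x, Algebra.subset_adjoin (Finset.mem_union_left _
          (Finset.mem_biUnion.2 ⟨v, hv, Finset.mem_biUnion.2 ⟨i, Finset.mem_univ _, hx⟩⟩))⟩, rfl⟩
    choose w hw using this
    exact ⟨w, funext hw⟩
  choose! lf hlf using hfdesc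
  choose! lv hlv using hGdesc
  let F₀ : Set (MvPolynomial (Fin n) R₀) := lf '' (f : Set (MvPolynomial (Fin n) R))
  let K₀ : Submodule (MvPolynomial (Fin n) R₀) (V a n R₀) := Submodule.span _
    (lv '' (G : Set (V a n R)) ∪ Set.image2 (fun g i => g • (Pi.single i 1 : V a n R₀)) F₀ Set.univ)
  have hkerπ : LinearMap.ker π = KK K₀ R := by
    apply le_antisymm
    · rw [← hG, Submodule.span_le]
      intro v hv
      exact Submodule.subset_span ⟨lv v, Submodule.subset_span (Or.inl ⟨v, hv, rfl⟩), hlv v hv⟩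
    · rw [KK, Submodule.span_le]
      rintro _ ⟨w, hw, rfl⟩
      refine Submodule.span_le.2 ?_ (mapV_mem_span (algebraMap R₀ R) hw)
      rintro _ ⟨w, (⟨v, hv, rfl⟩ | ⟨g, ⟨p, hp, rfl⟩, i, -, rfl⟩), rfl⟩
      · rw [hlv v hv]
        exact hG.le (Submodule.subset_span hv)
      · rw [SetLike.mem_coe, LinearMap.mem_ker, mapV_smul, hlf p hp, map_smul,
          ← IsScalarTower.algebraMap_smul A p, show algebraMap (MvPolynomial (Fin n) R) A p = 0 from
            hf.le (Submodule.subset_span hp), zero_smul]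
  obtain ⟨R₁, hR₁, hflat⟩ : ∃ R₁ : Subalgebra R₀ R, R₁.FG ∧ (Module.Flat R M → FlatC K₀ R₁) := by
    by_cases h : Module.Flat R M
    · have hFC : FlatC K₀ R := (flatC_iff_flat K₀).2 (Module.Flat.of_linearEquiv
        ((((Submodule.quotEquivOfEq _ _ hkerπ.symm).trans (π.quotKerEquivOfSurjective hπ))).restrictScalars R))
      obtain ⟨R₁, h1, h2⟩ := exists_fg_flatC K₀ hFC
      exact ⟨R₁, h1, fun _ => h2⟩
    · exact ⟨⊥, Subalgebra.fg_bot, fun h' => absurd h' h⟩
  haveI : Algebra.FiniteType R₀ R₁ := (Subalgebra.fg_iff_finiteType R₁).1 hR₁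
  let F : Set (MvPolynomial (Fin n) R₁) := MvPolynomial.map (algebraMap R₀ R₁) '' F₀
  have hmap : ∀ q : MvPolynomial (Fin n) R₀,
      MvPolynomial.map (algebraMap R₁ R) (MvPolynomial.map (algebraMap R₀ R₁) q) = MvPolynomial.map (algebraMap R₀ R) q :=
    fun q => by rw [MvPolynomial.map_map, ← IsScalarTower.algebraMap_eq]
  have hker : RingHom.ker φ = Ideal.span (MvPolynomial.map (algebraMap R₁ R) '' F) := by
    have : MvPolynomial.map (algebraMap R₁ R) '' F = (f : Set (MvPolynomial (Fin n) R)) := by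
      rw [Set.image_image, Set.image_image]
      refine (Set.image_congr fun p hp => ?_).trans (Set.image_id _)
      rw [hmap, hlf p hp]
      rfl
    rw [this]
    exact hf.symm
  have hKπ : ∀ u ∈ KK K₀ R₁, π (mapV (algebraMap R₁ R) u) = 0 := by
    intro x hx
    rw [← LinearMap.mem_ker, hkerπ]
    refine Submodule.span_le.2 ?_ (mapV_mem_span (algebraMap R₁ R) hx)
    rintro _ ⟨_, ⟨w, hw, rfl⟩, rfl⟩
    rw [mapV_mapV, ← IsScalarTower.algebraMap_eq]
    exact Submodule.subset_span ⟨w, hw, rfl⟩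
  have hπK : ∀ v, π v = 0 → v ∈ Submodule.span (MvPolynomial (Fin n) R) (mapV (algebraMap R₁ R) '' KK K₀ R₁) := by
    intro v hv
    rw [← LinearMap.mem_ker, hkerπ] at hv
    refine Submodule.span_mono ?_ hv
    rintro _ ⟨w, hw, rfl⟩
    refine ⟨mapV (algebraMap R₀ R₁) w, Submodule.subset_span ⟨w, hw, rfl⟩, ?_⟩
    rw [mapV_mapV, ← IsScalarTower.algebraMap_eq]
  have hFK : ∀ g ∈ F, ∀ v : V a n R₁, g • v ∈ KK K₀ R₁ := by
    rintro _ ⟨g, hg, rfl⟩ v
    rw [single_mul_eq_smul v, Finset.smul_sum]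
    refine Submodule.sum_mem _ fun i _ => ?_
    rw [smul_comm]
    refine Submodule.smul_mem _ _ (Submodule.subset_span
      ⟨g • Pi.single i 1, Submodule.subset_span (Or.inr ⟨g, hg, i, trivial, rfl⟩), ?_⟩)
    rw [mapV_smul]
    congr 1
    ext j : 1
    rw [mapV_apply]
    by_cases hj : j = i
    · subst hj; simp
    · simp [hj]
  exact ⟨n, a, φ, R₁, inferInstance, inferInstance, _, π, F, KK K₀ R₁, hφ, Algebra.FiniteType.trans hR₀ft ((Subalgebra.fg_iff_finiteType R₁).1 hR₁),
    hker, fun _ _ => rfl, hπ, hKπ, hπK, hFK, fun h => (flatC_iff_flat K₀).1 (hflat h)⟩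

/-- The structures of a torsion module over the quotient. -/
theorem torsion_structs (W : Type u) [AddCommGroup W] [Module (MvPolynomial (Fin n) R₁) W] [Module R₁ W]
    [IsScalarTower R₁ (MvPolynomial (Fin n) R₁) W]
    (h : Module.IsTorsionBySet (MvPolynomial (Fin n) R₁) W (Ideal.span F)) :
    ∃ (_ : Module (A₁ F) W), IsScalarTower R₁ (A₁ F) W ∧ IsScalarTower (MvPolynomial (Fin n) R₁) (A₁ F) W :=
  ⟨h.module, h.isScalarTower, h.isScalarTower⟩

/-- A finitely presented algebra with a finitely presented module has a model over a ring of finite type over `ℤ`,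
flat if the module is flat. -/
theorem exists_model (R A : Type u) [CommRing R] [CommRing A] [Algebra R A] [Algebra.FinitePresentation R A]
    (M : Type u) [AddCommGroup M] [Module A M] [Module R M] [IsScalarTower R A M] [Module.FinitePresentation A M] :
    ∃ (R₀ A₀ M₀ : Type u) (_ : CommRing R₀) (_ : CommRing A₀) (_ : AddCommGroup M₀) (_ : Algebra R₀ A₀)
      (_ : Algebra R₀ R) (_ : Algebra R₀ A) (_ : IsScalarTower R₀ R A) (_ : Algebra A₀ A) (_ : IsScalarTower R₀ A₀ A)
      (_ : Module A₀ M₀) (_ : Module R₀ M₀) (_ : IsScalarTower R₀ A₀ M₀) (_ : Module A₀ M) (_ : IsScalarTower A₀ A M)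
      (g : M₀ →ₗ[A₀] M),
      Algebra.FiniteType ℤ R₀ ∧ Algebra.FiniteType R₀ A₀ ∧ Module.Finite A₀ M₀ ∧ Algebra.IsPushout R₀ R A₀ A ∧
      IsBaseChange A g ∧ (Module.Flat R M → Module.Flat R₀ M₀) := by
  obtain ⟨n, a, φ, R₁, _, _, _, π, F, K, hφ, hft, hker, hPM, hπ, hKπ, hπK, hFK, hflat⟩ := exists_data R A M
  letI : Algebra R₁ A := ((algebraMap R A).comp (algebraMap R₁ R)).toAlgebra
  haveI : IsScalarTower R₁ R A := .of_algebraMap_eq fun _ => rfl
  letI algA : Algebra (A₁ F) A := (toA φ F hker).toAlgebra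
  haveI : IsScalarTower R₁ (A₁ F) A := .of_algebraMap_eq fun r => (toA_algebraMap φ F hker r).symm
  letI : Module (A₁ F) M := Module.compHom M (toA φ F hker)
  haveI : IsScalarTower (A₁ F) A M := .of_algebraMap_smul fun _ _ => rfl
  have htor : Module.IsTorsionBySet (MvPolynomial (Fin n) R₁) (V a n R₁ ⧸ K) (Ideal.span F) := by
    rw [Module.isTorsionBySet_iff_subset_annihilator]
    refine Ideal.span_le.2 fun g hg => ?_
    rw [SetLike.mem_coe, Module.mem_annihilator]
    intro x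
    obtain ⟨v, rfl⟩ := Submodule.Quotient.mk_surjective _ x
    rw [← Submodule.Quotient.mk_smul, Submodule.Quotient.mk_eq_zero]
    exact hFK g hg v
  obtain ⟨mA, tA, _⟩ := torsion_structs F (V a n R₁ ⧸ K) htor
  obtain ⟨g, hfin, hbc⟩ := model_of_data φ hφ F hker hPM π hπ (K) hKπ hπK (fun _ => rfl)
    (V a n R₁ ⧸ K) (K).mkQ (Submodule.mkQ_surjective _) fun u => Submodule.Quotient.mk_eq_zero _
  have h1 : Algebra.IsPushout R₁ R (A₁ F) A := isPushout φ hφ F hker (fun _ => rfl)
  have h2 : Algebra.FiniteType R₁ (A₁ F) := inferInstance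
  refine ⟨R₁, A₁ F, V a n R₁ ⧸ K, inferInstance, inferInstance, inferInstance, inferInstance, inferInstance,
    inferInstance, inferInstance, algA, inferInstance, mA, Submodule.Quotient.module' K, tA, inferInstance,
    inferInstance, g, ?_⟩
  exact ⟨hft, h2, hfin, h1, hbc, hflat⟩

end Groth.Agent.FlatApproxHx
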