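import Groth.Agent.FlatApproxHx.Model
import Groth.Agent.QCoh.Pullback
import Groth.Agent.QCoh.PullbackBC
import Groth.Agent.QCoh.SpecFT
import Groth.Agent.QCoh.FlatOver
import Groth.Agent.S2394

/-!
# Noetherian models of finitely presented modules on affine schemes
-/

set_option autoImplicit false
set_option linter.style.haveILetI false
set_option backward.isDefEq.respectTransparency false

universe u

open CategoryTheory CategoryTheory.Limits AlgebraicGeometry Opposite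

namespace Groth.Agent.FlatApproxHx

open Groth.Agent.QCoh

theorem exists_scheme_model {X S : Scheme.{u}} (f : X ⟶ S) [IsAffine X] [IsAffine S] [LocallyOfFinitePresentation f]
    (F : X.Modules) [Coh.IsQCoh F] (hF : CohB1.IsFP F) :
    ∃ (X₀ S₀ : Scheme.{u}) (f₀ : X₀ ⟶ S₀) (g : S ⟶ S₀) (g' : X ⟶ X₀), IsAffine X₀ ∧ IsAffine S₀ ∧ IsPullback g' f f₀ g ∧
      Algebra.FiniteType ℤ Γ(S₀, ⊤) ∧ LocallyOfFiniteType f₀ ∧
      ∃ F₀ : X₀.Modules, Coh.IsCoh F₀ ∧ (FlatMod.IsFlatOver f F → FlatMod.IsFlatOver f₀ F₀) ∧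
        Nonempty ((Scheme.Modules.pullback g').obj F₀ ≅ F) := by
  letI : Algebra Γ(S, ⊤) Γ(X, ⊤) := f.appTop.hom.toAlgebra
  haveI : Algebra.FinitePresentation Γ(S, ⊤) Γ(X, ⊤) :=
    (HasRingHomProperty.iff_of_isAffine (P := @LocallyOfFinitePresentation)).1 ‹_›
  haveI : Module.FinitePresentation Γ(X, ⊤) Γ(F, ⊤) := finitePresentation_of_isFP hF (isAffineOpen_top X)
  letI : Module Γ(S, ⊤) Γ(F, ⊤) := Module.compHom _ f.appTop.hom
  haveI : IsScalarTower Γ(S, ⊤) Γ(X, ⊤) Γ(F, ⊤) := .of_algebraMap_smul fun _ _ => rfl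
  obtain ⟨R₀, A₀, M₀, _, _, _, _, _, _, _, algA, _, _, _, _, _, _, g, hft, hftA, hfin, hpo, hbc, hflat⟩ :=
    exists_model Γ(S, ⊤) Γ(X, ⊤) Γ(F, ⊤)
  obtain ⟨a0, rfl⟩ : ∃ a0 : A₀ →+* Γ(X, ⊤), algA = a0.toAlgebra :=
    ⟨@algebraMap _ _ _ _ algA, Algebra.algebra_ext _ _ fun _ => rfl⟩
  letI := a0.toAlgebra
  let α : CommRingCat.of R₀ ⟶ Γ(S, ⊤) := CommRingCat.ofHom (algebraMap R₀ Γ(S, ⊤))
  let β : CommRingCat.of A₀ ⟶ Γ(X, ⊤) := CommRingCat.ofHom (algebraMap A₀ Γ(X, ⊤))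
  let f₀ : Spec (CommRingCat.of A₀) ⟶ Spec (CommRingCat.of R₀) := Spec.map (CommRingCat.ofHom (algebraMap R₀ A₀))
  have sq1 : IsPullback (Spec.map β) (Spec.map f.appTop) f₀ (Spec.map α) :=
    (isPullback_SpecMap_of_isPushout _ _ _ _ (CommRingCat.isPushout_iff_isPushout.mpr hpo)).flip
  have sq0 : IsPullback X.isoSpec.hom f (Spec.map f.appTop) S.isoSpec.hom :=
    IsPullback.of_horiz_isIso ⟨Scheme.isoSpec_hom_naturality f⟩
  let β' := X.isoSpec.hom ≫ Spec.map β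
  refine ⟨_, _, f₀, S.isoSpec.hom ≫ Spec.map α, β', inferInstance, inferInstance, sq0.paste_horiz sq1, ?_, ?_,
    tilde (ModuleCat.of A₀ M₀), ⟨inferInstance, ?_⟩, ?_, ?_⟩
  · exact Algebra.FiniteType.equiv hft (Scheme.ΓSpecIso (CommRingCat.of R₀)).symm.commRingCatIsoToRingEquiv.toIntAlgEquiv
  · rw [HasRingHomProperty.Spec_iff (P := @LocallyOfFiniteType)]
    exact RingHom.finiteType_algebraMap.2 hftA
  · exact (isFT_tilde_iff (R := CommRingCat.of A₀) (ModuleCat.of A₀ M₀)).2 hfin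
  · intro hfl
    refine (S2394.result R₀ A₀ M₀).2 (hflat ?_)
    have h := (flat_appLE_iff f (M := F) inferInstance (isAffineOpen_top X) (isAffineOpen_top S) le_top).2 fun x _ => hfl x
    have he : (Module.compHom Γ(F, ⊤) (f.appLE ⊤ ⊤ le_top).hom : Module Γ(S, ⊤) Γ(F, ⊤)) =
        Module.compHom Γ(F, ⊤) f.appTop.hom := by
      rw [show f.appLE ⊤ ⊤ le_top = f.appTop from Scheme.Hom.appLE_eq_app (f := f)]
    rw [he] at h
    exact h
  · let hV := isAffineOpen_top X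
    let eE : (ModuleCat.extendScalars β.hom).obj (ModuleCat.of A₀ M₀) ≅ ModuleCat.of Γ(X, ⊤) Γ(F, ⊤) :=
      hbc.equiv.toModuleIso
    let eM : ModuleCat.of Γ(X, ⊤) Γ(F, ⊤) ≅ moduleSpecΓFunctor.obj (F.restrict hV.fromSpec) :=
      (LinearEquiv.ofBijective
        ({ toFun := toChart hV F, map_add' := toChart_add hV F, map_smul' := fun r x => toChart_smul hV F r x } :
          Γ(F, ⊤) →ₗ[Γ(X, ⊤)] moduleSpecΓFunctor.obj (F.restrict hV.fromSpec))
        (bijective_toChart hV F)).toModuleIso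
    haveI : IsIso (F.restrict hV.fromSpec).fromTildeΓ :=
      (isQuasicoherent_iff_isIso_fromTildeΓ _).1 (isQCoh_restrict hV.fromSpec ‹Coh.IsQCoh F›)
    let e1 : tilde (ModuleCat.of Γ(X, ⊤) Γ(F, ⊤)) ≅ F.restrict hV.fromSpec :=
      (tilde.functor Γ(X, ⊤)).mapIso eM ≪≫ asIso (F.restrict hV.fromSpec).fromTildeΓ
    let e2 : (Scheme.Modules.pullback (Spec.map β)).obj (tilde (ModuleCat.of A₀ M₀)) ≅
        (Scheme.Modules.pullback hV.fromSpec).obj F :=
      (tildePullbackIso β).app (ModuleCat.of A₀ M₀) ≪≫ (tilde.functor Γ(X, ⊤)).mapIso eE ≪≫ e1 ≪≫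
        (Scheme.Modules.restrictFunctorIsoPullback hV.fromSpec).app F
    have hid : X.isoSpec.hom ≫ hV.fromSpec = 𝟙 X := by
      rw [IsAffineOpen.fromSpec_top, Iso.hom_inv_id]
    exact ⟨((Scheme.Modules.pullbackComp X.isoSpec.hom (Spec.map β)).app _).symm ≪≫
      (Scheme.Modules.pullback X.isoSpec.hom).mapIso e2 ≪≫
      (Scheme.Modules.pullbackComp X.isoSpec.hom hV.fromSpec).app F ≪≫
      (Scheme.Modules.pullbackCongr hid).app F ≪≫ (Scheme.Modules.pullbackId X).app F⟩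

end Groth.Agent.FlatApproxHx
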