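import Groth.Prelude.Def_RegImm
import Groth.Agent.FlatApproxHx.Model
import Groth.Agent.FlatMisc.ApproxDim
import Groth.Agent.FlatMisc.ValuationDim

/-!
# Noetherian approximation of standard syntomic morphisms
-/

set_option autoImplicit false
set_option linter.style.haveILetI false
set_option backward.isDefEq.respectTransparency false
set_option maxHeartbeats 400000

universe u

open CategoryTheory CategoryTheory.Limits AlgebraicGeometry Opposite MvPolynomial Topology

namespace Groth.Agent.FlatApproxHx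

variable {R₁ R : Type u} [CommRing R₁] [CommRing R] [Algebra R₁ R] {n c : ℕ}

/-- The comparison map of relative global complete intersection rings. -/
noncomputable def gciMap (F₁ : Fin c → MvPolynomial (Fin n) R₁) (F : Fin c → MvPolynomial (Fin n) R)
    (hF : ∀ i, MvPolynomial.map (algebraMap R₁ R) (F₁ i) = F i) :
    Synt.RelGCIRing R₁ n c F₁ →+* Synt.RelGCIRing R n c F :=
  Ideal.quotientMap _ (MvPolynomial.map (algebraMap R₁ R)) (Ideal.span_le.2 (by
    rintro _ ⟨i, rfl⟩
    exact Ideal.subset_span ⟨i, (hF i).symm⟩))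

theorem isPullback_model {A : Type u} [CommRing A] [Algebra R A] (φ : MvPolynomial (Fin n) R →ₐ[R] A)
    (hφ : Function.Surjective φ) (F : Set (MvPolynomial (Fin n) R₁))
    (hker : RingHom.ker φ = Ideal.span (MvPolynomial.map (algebraMap R₁ R) '' F)) (β : A₁ F →+* A)
    (hβ : ∀ g, β (Ideal.Quotient.mk _ g) = φ (MvPolynomial.map (algebraMap R₁ R) g)) :
    IsPullback (Spec.map (CommRingCat.ofHom β)) (Spec.map (CommRingCat.ofHom (algebraMap R A)))
      (Spec.map (CommRingCat.ofHom (algebraMap R₁ (A₁ F)))) (Spec.map (CommRingCat.ofHom (algebraMap R₁ R))) := by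
  letI : Algebra R₁ A := ((algebraMap R A).comp (algebraMap R₁ R)).toAlgebra
  haveI : IsScalarTower R₁ R A := .of_algebraMap_eq fun _ => rfl
  letI : Algebra (A₁ F) A := β.toAlgebra
  have halg : ∀ z, algebraMap (A₁ F) A z = toA φ F hker z := fun z => by
    obtain ⟨g, rfl⟩ := Ideal.Quotient.mk_surjective z
    exact hβ g
  haveI : IsScalarTower R₁ (A₁ F) A := .of_algebraMap_eq fun r =>
    ((halg _).trans (toA_algebraMap φ F hker r)).symm
  exact (isPullback_SpecMap_of_isPushout _ _ _ _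
    (CommRingCat.isPushout_iff_isPushout.mpr (isPushout φ hφ F hker halg))).flip

/-- The morphism of a presentation. -/
noncomputable def gciMor (F₁ : Fin c → MvPolynomial (Fin n) R₁) :
    Spec (CommRingCat.of (Synt.RelGCIRing R₁ n c F₁)) ⟶ Spec (CommRingCat.of R₁) :=
  Spec.map (CommRingCat.ofHom (algebraMap R₁ (Synt.RelGCIRing R₁ n c F₁)))

theorem isPullback_gci (F₁ : Fin c → MvPolynomial (Fin n) R₁) (F : Fin c → MvPolynomial (Fin n) R)
    (hF : ∀ i, MvPolynomial.map (algebraMap R₁ R) (F₁ i) = F i) :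
    IsPullback (Spec.map (CommRingCat.ofHom (gciMap F₁ F hF)))
      (gciMor F) (gciMor F₁)
      (Spec.map (CommRingCat.ofHom (algebraMap R₁ R))) :=
  isPullback_model (Ideal.Quotient.mkₐ R (Ideal.span (Set.range F))) Ideal.Quotient.mk_surjective (Set.range F₁)
    (by
      rw [← Set.range_comp, show MvPolynomial.map (algebraMap R₁ R) ∘ F₁ = F from funext hF]
      exact Ideal.mk_ker)
    (gciMap F₁ F hF) fun _ => rfl

instance (F₁ : Fin c → MvPolynomial (Fin n) R₁) :
    LocallyOfFinitePresentation (gciMor F₁) := by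
  rw [gciMor, HasRingHomProperty.Spec_iff (P := @LocallyOfFinitePresentation)]
  exact RingHom.finitePresentation_algebraMap.2
    (Algebra.FinitePresentation.quotient (Submodule.fg_span (Set.finite_range F₁)))

theorem isRelGCI_iff (F₁ : Fin c → MvPolynomial (Fin n) R₁) :
    Synt.IsRelGCI R₁ n c F₁ ↔ ∀ p : PrimeSpectrum R₁,
      topologicalKrullDim ↥((gciMor F₁).fiber p) = ⊥ ∨
      (c ≤ n ∧ topologicalKrullDim ↥((gciMor F₁).fiber p) =
        ((n - c : ℕ) : WithBot ℕ∞)) := by
  refine forall_congr' fun p => ?_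
  unfold gciMor
  rw [FlatMisc.ValuationDim.dim_fiber_eq]
  rcases subsingleton_or_nontrivial (p.asIdeal.Fiber (Synt.RelGCIRing R₁ n c F₁)) with h | h
  · exact ⟨fun _ => Or.inl ringKrullDim_eq_bot_of_subsingleton, fun _ h' => absurd h' (not_nontrivial_iff_subsingleton.2 h)⟩
  · exact ⟨fun h' => Or.inr (h' h), fun h' _ => h'.resolve_left (ne_of_gt (lt_of_lt_of_le (WithBot.bot_lt_coe 0) ringKrullDim_nonneg_of_nontrivial))⟩

theorem isStandardSyntomic_gciMor (F₁ : Fin c → MvPolynomial (Fin n) R₁) (h : Synt.IsRelGCI R₁ n c F₁) :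
    Synt.IsStandardSyntomic (gciMor F₁) :=
  ⟨R₁, inferInstance, n, c, F₁, h, Iso.refl _, Iso.refl _, (Category.id_comp _).trans (Category.comp_id _).symm⟩

theorem finiteType_gciMor (F₁ : Fin c → MvPolynomial (Fin n) R₁) : LocallyOfFiniteType (gciMor F₁) := inferInstance

theorem finiteType_Γ_Spec (h : Algebra.FiniteType ℤ R₁) : Algebra.FiniteType ℤ Γ(Spec (CommRingCat.of R₁), ⊤) :=
  Algebra.FiniteType.equiv h (Scheme.ΓSpecIso (CommRingCat.of R₁)).symm.commRingCatIsoToRingEquiv.toIntAlgEquiv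

open ConsPropLib in
theorem exists_model_standardSyntomic {X S : Scheme.{u}} (f : X ⟶ S) (hf : Synt.IsStandardSyntomic f) :
    ∃ (X₀ S₀ : Scheme.{u}) (f₀ : X₀ ⟶ S₀) (g : S ⟶ S₀) (g' : X ⟶ X₀), IsAffine X₀ ∧ IsAffine S₀ ∧ IsPullback g' f f₀ g ∧
      Algebra.FiniteType ℤ Γ(S₀, ⊤) ∧ LocallyOfFiniteType f₀ ∧ Synt.IsStandardSyntomic f₀ := by
  classical
  obtain ⟨R, _, n, c, F, hF, e₁, e₂, he⟩ := hf
  let A : CommRingCat.{u} := CommRingCat.of R
  let T : Finset A := Finset.univ.biUnion fun i => (F i).coeffs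
  let i : (Finset A)ᵒᵖ := op T
  let sub : (Finset A)ᵒᵖ → Subalgebra ℤ R := fun j => Algebra.adjoin ℤ ((j.unop : Finset A) : Set R)
  have hlift : ∀ k, ∃ q : MvPolynomial (Fin n) (sub i), MvPolynomial.map (algebraMap (sub i) R) q = F k := fun k =>
    MvPolynomial.mem_range_map_iff_coeffs_subset.2 fun x hx =>
      ⟨⟨x, Algebra.subset_adjoin (Finset.mem_biUnion.2 ⟨k, Finset.mem_univ _, hx⟩)⟩, rfl⟩
  choose F₀ hF₀ using hlift
  let f₀ := gciMor F₀
  have sq := isPullback_gci F₀ F hF₀
  let D := NoethApprox.diagram A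
  let e := NoethApprox.cone A
  haveI : ∀ {a b} (φ : a ⟶ b), IsAffineHom (D.map φ) := fun φ => NoethApprox.isAffineHom_map _ φ
  haveI : IsNoetherian (D.obj i) := NoethApprox.isNoetherian_obj _ i
  have hsqe : IsPullback _ (gciMor F) f₀ (e.π.app i) := sq
  let good : WithBot ℕ∞ → Prop := fun d => d = ⊥ ∨ (c ≤ n ∧ d = ((n - c : ℕ) : WithBot ℕ∞))
  let L : Set (D.obj i) := {y | good (topologicalKrullDim ↥(f₀.fiber y))}
  haveI : QuasiCompact f₀ := inferInstance
  have hL : IsLocallyConstructible L := by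
    by_cases hcn : c ≤ n
    · have : L = {y | topologicalKrullDim ↥(f₀.fiber y) = (⊥ : WithBot ℕ∞)} ∪
          {y | topologicalKrullDim ↥(f₀.fiber y) = ((n - c : ℕ) : WithBot ℕ∞)} := by
        ext y; simp [L, good, hcn]; rfl
      rw [this]
      exact (FlatMisc.DimConstr.isLocallyConstructible_dim_eq f₀ ⊥).union
        (FlatMisc.DimConstr.isLocallyConstructible_dim_eq f₀ _)
    · have : L = {y | topologicalKrullDim ↥(f₀.fiber y) = (⊥ : WithBot ℕ∞)} := by
        ext y; simp [L, good, hcn]; rfl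
      rw [this]
      exact FlatMisc.DimConstr.isLocallyConstructible_dim_eq f₀ ⊥
  have hsub : e.π.app i ⁻¹' (((⊤ : (D.obj i).Opens) : Set (D.obj i)) ∩ Set.univ) ⊆ e.π.app i ⁻¹' L := by
    intro s _
    have hs := (isRelGCI_iff F).1 hF s
    rw [FlatMisc.ApproxDim.fibre_dim_baseChange hsqe] at hs
    exact hs
  obtain ⟨j, ψ, hj⟩ := MorLib.LimCons.exists_subset_open (NoethApprox.isLimit A) i ⊤ isCompact_univ
    (MorLib.LimCons.pro_univ) (FlatMisc.ApproxGeomRed.isIndConstructible hL) hsub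
  have hle : sub i ≤ sub j := Algebra.adjoin_mono (Finset.coe_subset.2 (leOfHom ψ.unop))
  letI : Algebra (sub i) (sub j) := (Subalgebra.inclusion hle).toRingHom.toAlgebra
  let Fj : Fin c → MvPolynomial (Fin n) (sub j) := fun k => MvPolynomial.map (algebraMap (sub i) (sub j)) (F₀ k)
  have hFj : ∀ k, MvPolynomial.map (algebraMap (sub j) R) (Fj k) = F k := fun k => by
    rw [MvPolynomial.map_map, show (algebraMap (sub j) R).comp (algebraMap (sub i) (sub j)) = algebraMap (sub i) R from rfl]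
    exact hF₀ k
  haveI hftj : Algebra.FiniteType ℤ (sub j) := Algebra.FiniteType.adjoin_of_finite (Finset.finite_toSet _)
  let fj := gciMor Fj
  have sqj : IsPullback _ fj f₀ (D.map ψ) := isPullback_gci F₀ Fj fun _ => rfl
  have hgci : Synt.IsRelGCI (sub j) n c Fj := (isRelGCI_iff Fj).2 fun y => by
    show good (topologicalKrullDim ↥(fj.fiber y))
    rw [FlatMisc.ApproxDim.fibre_dim_baseChange sqj]
    exact @hj y ⟨trivial, trivial⟩
  have sqfin := isPullback_gci Fj F hFj
  have sq0 : IsPullback e₁.hom f (gciMor F) e₂.hom :=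
    IsPullback.of_horiz_isIso ⟨he⟩
  exact ⟨_, _, fj, _, _, inferInstance, inferInstance, sq0.paste_horiz sqfin, finiteType_Γ_Spec hftj,
    finiteType_gciMor Fj, isStandardSyntomic_gciMor Fj hgci⟩

end Groth.Agent.FlatApproxHx
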